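import Cfsg.Agent.Schur.Enc
import Cfsg.Agent.Golay.Mathieu

set_option autoImplicit false
set_option maxRecDepth 100000

namespace Cfsg.Agent.Schur.M24
open Cfsg.Agent.Comp Cfsg.Agent.Schur

noncomputable def n0 : Net :=
(Net.cons (nat_lit 0x800) (nat_lit 12)
(Net.cons (nat_lit 0x20) (nat_lit 6)
(Net.cons (nat_lit 0x4) (nat_lit 3)
(Net.cons (nat_lit 0x249248) (nat_lit 2)
(Net.cons (nat_lit 0x249249) (nat_lit 1)
(Net.cons (nat_lit 0x104106) (nat_lit 3)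
(Net.cons (nat_lit 0x20030) (nat_lit 6)
(Net.cons (nat_lit 0xc00) (nat_lit 12)
Net.nil))))))))

noncomputable def n1 : Net :=
(Net.cons (nat_lit 0xf2) (nat_lit 12)
(Net.cons (nat_lit 0x10012) (nat_lit 6)
(Net.cons (nat_lit 0x80106) (nat_lit 3)
(Net.cons (nat_lit 0x8001) (nat_lit 2)
(Net.cons (nat_lit 0x209241) (nat_lit 1)
(Net.cons (nat_lit 0x249040) (nat_lit 2)
(Net.cons (nat_lit 0x1c4004) (nat_lit 3)
(Net.cons (nat_lit 0x23020) (nat_lit 6)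
(Net.cons (nat_lit 0xbcd) (nat_lit 12)
Net.nil)))))))))

noncomputable def n2 : Net :=
(Net.cons (nat_lit 0xdc) (nat_lit 12)
(Net.cons (nat_lit 0x8024) (nat_lit 6)
(Net.cons (nat_lit 0x104004) (nat_lit 3)
(Net.cons (nat_lit 0x201208) (nat_lit 2)
(Net.cons (nat_lit 0x201208) (nat_lit 1)
(Net.cons (nat_lit 0x48240) (nat_lit 2)
(Net.cons (nat_lit 0x1430c0) (nat_lit 3)
(Net.cons (nat_lit 0x3a01c) (nat_lit 6)
(Net.cons (nat_lit 0xeda) (nat_lit 12)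
Net.nil)))))))))

noncomputable def n3 : Net :=
(Net.cons (nat_lit 0xc9e) (nat_lit 12)
(Net.cons (nat_lit 0x3a) (nat_lit 6)
(Net.cons (nat_lit 0x100000) (nat_lit 3)
(Net.cons (nat_lit 0x48241) (nat_lit 2)
(Net.cons (nat_lit 0x49241) (nat_lit 1)
(Net.cons (nat_lit 0x201001) (nat_lit 2)
(Net.cons (nat_lit 0x44146) (nat_lit 3)
(Net.cons (nat_lit 0x3c026) (nat_lit 6)
(Net.cons (nat_lit 0x3e0) (nat_lit 12)
Net.nil)))))))))

noncomputable def n4 : Net :=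
(Net.cons (nat_lit 0x216) (nat_lit 12)
(Net.cons (nat_lit 0x12) (nat_lit 6)
(Net.cons (nat_lit 0x6080) (nat_lit 3)
(Net.cons (nat_lit 0x1) (nat_lit 2)
(Net.cons (nat_lit 0x201041) (nat_lit 1)
(Net.cons (nat_lit 0x1241) (nat_lit 2)
(Net.cons (nat_lit 0x43180) (nat_lit 3)
(Net.cons (nat_lit 0x1c038) (nat_lit 6)
(Net.cons (nat_lit 0xff2) (nat_lit 12)
Net.nil)))))))))

noncomputable def n5 : Net :=
(Net.cons (nat_lit 0xc32) (nat_lit 12)
(Net.cons (nat_lit 0x3a01c) (nat_lit 6)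
(Net.cons (nat_lit 0x80004) (nat_lit 3)
(Net.cons (nat_lit 0x1201) (nat_lit 2)
(Net.cons (nat_lit 0x49249) (nat_lit 1)
(Net.cons (nat_lit 0x201241) (nat_lit 2)
(Net.cons (nat_lit 0xc3004) (nat_lit 3)
(Net.cons (nat_lit 0x3f000) (nat_lit 6)
(Net.cons (nat_lit 0x56) (nat_lit 12)
Net.nil)))))))))

noncomputable def n6 : Net :=
(Net.cons (nat_lit 0xef0) (nat_lit 12)
(Net.cons (nat_lit 0x1c00c) (nat_lit 6)
(Net.cons (nat_lit 0x6100) (nat_lit 3)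
(Net.cons (nat_lit 0x8040) (nat_lit 2)
(Net.cons (nat_lit 0x248048) (nat_lit 1)
(Net.cons (nat_lit 0x200000) (nat_lit 2)
(Net.cons (nat_lit 0x11c4) (nat_lit 3)
(Net.cons (nat_lit 0x2103c) (nat_lit 6)
(Net.cons (nat_lit 0xa0) (nat_lit 12)
Net.nil)))))))))

noncomputable def n7 : Net :=
(Net.cons (nat_lit 0x83c) (nat_lit 12)
(Net.cons (nat_lit 0x2a016) (nat_lit 6)
(Net.cons (nat_lit 0x84000) (nat_lit 3)
(Net.cons (nat_lit 0x1001) (nat_lit 2)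
(Net.cons (nat_lit 0x201209) (nat_lit 1)
(Net.cons (nat_lit 0x41249) (nat_lit 2)
(Net.cons (nat_lit 0x187140) (nat_lit 3)
(Net.cons (nat_lit 0x2a016) (nat_lit 6)
(Net.cons (nat_lit 0xaf4) (nat_lit 12)
Net.nil)))))))))

noncomputable def n8 : Net :=
(Net.cons (nat_lit 0xf10) (nat_lit 12)
(Net.cons (nat_lit 0x2c03a) (nat_lit 6)
(Net.cons (nat_lit 0x104100) (nat_lit 3)
(Net.cons (nat_lit 0x40200) (nat_lit 2)
(Net.cons (nat_lit 0x48208) (nat_lit 1)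
(Net.cons (nat_lit 0x241240) (nat_lit 2)
(Net.cons (nat_lit 0x182002) (nat_lit 3)
(Net.cons (nat_lit 0x2502a) (nat_lit 6)
(Net.cons (nat_lit 0x330) (nat_lit 12)
Net.nil)))))))))

noncomputable def n9 : Net :=
(Net.cons (nat_lit 0x1c) (nat_lit 12)
(Net.cons (nat_lit 0x6026) (nat_lit 6)
(Net.cons (nat_lit 0x182000) (nat_lit 3)
(Net.cons (nat_lit 0x40000) (nat_lit 2)
(Net.cons (nat_lit 0x241008) (nat_lit 1)
(Net.cons (nat_lit 0x40240) (nat_lit 2)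
(Net.cons (nat_lit 0x144102) (nat_lit 3)
(Net.cons (nat_lit 0x26006) (nat_lit 6)
(Net.cons (nat_lit 0xaec) (nat_lit 12)
Net.nil)))))))))

noncomputable def n10 : Net :=
(Net.cons (nat_lit 0xef6) (nat_lit 12)
(Net.cons (nat_lit 0x1a010) (nat_lit 6)
(Net.cons (nat_lit 0x100) (nat_lit 3)
(Net.cons (nat_lit 0x41) (nat_lit 2)
(Net.cons (nat_lit 0x1041) (nat_lit 1)
(Net.cons (nat_lit 0x208201) (nat_lit 2)
(Net.cons (nat_lit 0x1421c4) (nat_lit 3)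
(Net.cons (nat_lit 0x32036) (nat_lit 6)
(Net.cons (nat_lit 0xef6) (nat_lit 12)
Net.nil)))))))))

noncomputable def n11 : Net :=
(Net.cons (nat_lit 0xe8a) (nat_lit 12)
(Net.cons (nat_lit 0x1e014) (nat_lit 6)
(Net.cons (nat_lit 0x4102) (nat_lit 3)
(Net.cons (nat_lit 0x41) (nat_lit 2)
(Net.cons (nat_lit 0x1041) (nat_lit 1)
(Net.cons (nat_lit 0x48009) (nat_lit 2)
(Net.cons (nat_lit 0x102144) (nat_lit 3)
(Net.cons (nat_lit 0x1e03e) (nat_lit 6)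
(Net.cons (nat_lit 0xe8a) (nat_lit 12)
Net.nil)))))))))

noncomputable def n12 : Net :=
(Net.cons (nat_lit 0xda8) (nat_lit 12)
(Net.cons (nat_lit 0xa014) (nat_lit 6)
(Net.cons (nat_lit 0x100086) (nat_lit 3)
(Net.cons (nat_lit 0x40001) (nat_lit 2)
(Net.cons (nat_lit 0x49201) (nat_lit 1)
(Net.cons (nat_lit 0x48209) (nat_lit 2)
(Net.cons (nat_lit 0x860c2) (nat_lit 3)
(Net.cons (nat_lit 0x3803c) (nat_lit 6)
(Net.cons (nat_lit 0xe88) (nat_lit 12)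
Net.nil)))))))))

noncomputable def n13 : Net :=
(Net.cons (nat_lit 0xdec) (nat_lit 12)
(Net.cons (nat_lit 0x12034) (nat_lit 6)
(Net.cons (nat_lit 0x182084) (nat_lit 3)
(Net.cons (nat_lit 0x200008) (nat_lit 2)
(Net.cons (nat_lit 0x241208) (nat_lit 1)
(Net.cons (nat_lit 0x200000) (nat_lit 2)
(Net.cons (nat_lit 0xc01c4) (nat_lit 3)
(Net.cons (nat_lit 0x12014) (nat_lit 6)
(Net.cons (nat_lit 0xdec) (nat_lit 12)
Net.nil)))))))))

noncomputable def T : List Net := [n0, n1, n2, n3, n4, n5, n6, n7, n8, n9, n10, n11, n12, n13]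

theorem ok : TOK 24 T := TOK_of_ok (by decide +kernel)

def E : List (List Nat × List Nat) :=
  [([0, 1, 0, 1, 0, 2], [1, 0, 1, 1, 0]),
   ([3], [0, 1, 0, 0, 1, 1]),
   ([3, 2, 4], [2, 3]),
   ([3, 3, 5], [2, 2, 2, 2]),
   ([4, 4, 4, 6], [4, 5, 5]),
   ([5, 5, 4, 5, 7], [4, 5, 4, 4, 5, 4]),
   ([7, 8], [6, 7, 6]),
   ([6, 6, 7, 9], [7, 6, 6, 6]),
   ([9, 8, 8, 10], [8, 9, 9]),
   ([8, 8, 8, 11], [9, 9, 8, 8]),
   ([8, 9, 8, 9, 12], [8, 8, 9, 9, 8]),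
   ([11, 12, 11, 13], [12, 12, 10, 11, 12])]

theorem eqs : ∀ e ∈ E, ev (sig T) e.1 = ev (sig T) e.2 :=
  eq_of_eqsP ok (by norm_num) (show eqsP (nat_lit 24) (nat_lit 5) (nat_lit 0) (nat_lit 5) T E = true by decide +kernel)

noncomputable def phi : ↥Cfsg.M24 →* Equiv.Perm ℕ := (encHom Golay.gE).comp (Cfsg.M24).subtype

theorem rep0 : ∃ s, Rep s 2 24 T phi :=
  rep_of_gen Golay.gE (w := 5) (by norm_num) Golay.gen_M24 ok rfl (by decide +kernel)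

noncomputable def s : ℕ → ↥Cfsg.M24 := rep0.choose

theorem rep : Rep s 2 24 T phi := rep0.choose_spec

theorem card : Finite ↥Cfsg.M24 ∧ Nat.card ↥Cfsg.M24 = 244823040 := ⟨inferInstance, Golay.card_M24⟩

theorem inj : Function.Injective phi := encHom_sub_injective _ _

theorem allIn : AllIn phi.range T := allIn_of_rep rep eqs (L' := 14) rfl (by decide +kernel)

end Cfsg.Agent.Schur.M24
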