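import Cfsg.Agent.Schur.M24.Base

set_option autoImplicit false
set_option maxRecDepth 100000

namespace Cfsg.Agent.Schur.M24
open Cfsg.Agent.Comp Cfsg.Agent.Schur

namespace P2

noncomputable def x0 : Net :=
(Net.cons (nat_lit 0xfb6) (nat_lit 12)
(Net.cons (nat_lit 0x3400c) (nat_lit 6)
(Net.cons (nat_lit 0x4080) (nat_lit 3)
(Net.cons (nat_lit 0x8048) (nat_lit 2)
(Net.cons (nat_lit 0x208248) (nat_lit 1)
(Net.cons (nat_lit 0x241200) (nat_lit 2)
(Net.cons (nat_lit 0x1821c3) (nat_lit 3)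
(Net.cons (nat_lit 0x10024) (nat_lit 6)
(Net.cons (nat_lit 0xc04) (nat_lit 12)
Net.nil)))))))))

noncomputable def x1 : Net :=
(Net.cons (nat_lit 0x608) (nat_lit 12)
(Net.cons (nat_lit 0x2e012) (nat_lit 6)
(Net.cons (nat_lit 0x104100) (nat_lit 3)
(Net.cons (nat_lit 0x48200) (nat_lit 2)
(Net.cons (nat_lit 0x248201) (nat_lit 1)
(Net.cons (nat_lit 0x208200) (nat_lit 2)
(Net.cons (nat_lit 0xc5140) (nat_lit 3)
(Net.cons (nat_lit 0x2e012) (nat_lit 6)
(Net.cons (nat_lit 0x608) (nat_lit 12)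
Net.nil)))))))))

noncomputable def x2 : Net :=
(Net.cons (nat_lit 0xa00) (nat_lit 12)
(Net.cons (nat_lit 0x10008) (nat_lit 6)
(Net.cons (nat_lit 0x100) (nat_lit 3)
(Net.cons (nat_lit 0x240000) (nat_lit 2)
(Net.cons (nat_lit 0x240000) (nat_lit 1)
(Net.cons (nat_lit 0x248048) (nat_lit 2)
(Net.cons (nat_lit 0x1c0182) (nat_lit 3)
(Net.cons (nat_lit 0x1001a) (nat_lit 6)
(Net.cons (nat_lit 0xa00) (nat_lit 12)
Net.nil)))))))))

noncomputable def x3 : Net :=
(Net.cons (nat_lit 0xb50) (nat_lit 12)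
(Net.cons (nat_lit 0x3002c) (nat_lit 6)
(Net.cons (nat_lit 0x82000) (nat_lit 3)
(Net.cons (nat_lit 0x48000) (nat_lit 1)
(Net.cons (nat_lit 0x200) (nat_lit 2)
(Net.cons (nat_lit 0x182087) (nat_lit 3)
(Net.cons (nat_lit 0x3002c) (nat_lit 6)
(Net.cons (nat_lit 0xb50) (nat_lit 12)
Net.nil))))))))

noncomputable def x4 : Net :=
(Net.cons (nat_lit 0x320) (nat_lit 12)
(Net.cons (nat_lit 0x4008) (nat_lit 6)
(Net.cons (nat_lit 0x100080) (nat_lit 3)
(Net.cons (nat_lit 0x1048) (nat_lit 2)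
(Net.cons (nat_lit 0x9249) (nat_lit 1)
(Net.cons (nat_lit 0x201048) (nat_lit 2)
(Net.cons (nat_lit 0x182145) (nat_lit 3)
(Net.cons (nat_lit 0x25037) (nat_lit 6)
(Net.cons (nat_lit 0x23a) (nat_lit 12)
Net.nil)))))))))

noncomputable def x5 : Net :=
(Net.cons (nat_lit 0xc08) (nat_lit 12)
(Net.cons (nat_lit 0x20014) (nat_lit 6)
(Net.cons (nat_lit 0x2) (nat_lit 3)
(Net.cons (nat_lit 0x200000) (nat_lit 2)
(Net.cons (nat_lit 0x200008) (nat_lit 1)
(Net.cons (nat_lit 0x201001) (nat_lit 2)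
(Net.cons (nat_lit 0x400c2) (nat_lit 3)
(Net.cons (nat_lit 0x20034) (nat_lit 6)
(Net.cons (nat_lit 0xe48) (nat_lit 12)
Net.nil)))))))))

noncomputable def x6 : Net :=
(Net.cons (nat_lit 0xb00) (nat_lit 12)
(Net.cons (nat_lit 0x4036) (nat_lit 6)
(Net.cons (nat_lit 0x1009) (nat_lit 2)
(Net.cons (nat_lit 0x1049) (nat_lit 1)
(Net.cons (nat_lit 0x9209) (nat_lit 2)
(Net.cons (nat_lit 0x1) (nat_lit 3)
(Net.cons (nat_lit 0x4036) (nat_lit 6)
(Net.cons (nat_lit 0xb10) (nat_lit 12)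
Net.nil))))))))

noncomputable def x7 : Net :=
(Net.cons (nat_lit 0xe08) (nat_lit 12)
(Net.cons (nat_lit 0x10006) (nat_lit 6)
(Net.cons (nat_lit 0x2100) (nat_lit 3)
(Net.cons (nat_lit 0x240200) (nat_lit 2)
(Net.cons (nat_lit 0x248200) (nat_lit 1)
(Net.cons (nat_lit 0x241201) (nat_lit 2)
(Net.cons (nat_lit 0x1c2102) (nat_lit 3)
(Net.cons (nat_lit 0x10006) (nat_lit 6)
(Net.cons (nat_lit 0xe08) (nat_lit 12)
Net.nil)))))))))

noncomputable def x8 : Net :=
(Net.cons (nat_lit 0xe08) (nat_lit 12)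
(Net.cons (nat_lit 0x24026) (nat_lit 6)
(Net.cons (nat_lit 0x104) (nat_lit 3)
(Net.cons (nat_lit 0x201048) (nat_lit 2)
(Net.cons (nat_lit 0x209049) (nat_lit 1)
(Net.cons (nat_lit 0x201041) (nat_lit 2)
(Net.cons (nat_lit 0x143) (nat_lit 3)
(Net.cons (nat_lit 0x24026) (nat_lit 6)
(Net.cons (nat_lit 0xe08) (nat_lit 12)
Net.nil)))))))))

noncomputable def x9 : Net :=
(Net.cons (nat_lit 0x808) (nat_lit 12)
(Net.cons (nat_lit 0x30006) (nat_lit 6)
(Net.cons (nat_lit 0x82080) (nat_lit 3)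
(Net.cons (nat_lit 0x40200) (nat_lit 2)
(Net.cons (nat_lit 0x48240) (nat_lit 1)
(Net.cons (nat_lit 0x240209) (nat_lit 2)
(Net.cons (nat_lit 0x82082) (nat_lit 3)
(Net.cons (nat_lit 0x30006) (nat_lit 6)
(Net.cons (nat_lit 0x808) (nat_lit 12)
Net.nil)))))))))

noncomputable def x10 : Net :=
(Net.cons (nat_lit 0xd0e) (nat_lit 12)
(Net.cons (nat_lit 0x2603a) (nat_lit 6)
(Net.cons (nat_lit 0x104084) (nat_lit 3)
(Net.cons (nat_lit 0x48248) (nat_lit 2)
(Net.cons (nat_lit 0x249248) (nat_lit 1)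
(Net.cons (nat_lit 0x201040) (nat_lit 2)
(Net.cons (nat_lit 0x1c3087) (nat_lit 3)
(Net.cons (nat_lit 0x19003) (nat_lit 6)
(Net.cons (nat_lit 0xbd0) (nat_lit 12)
Net.nil)))))))))

noncomputable def x11 : Net :=
(Net.cons (nat_lit 0x410) (nat_lit 12)
(Net.cons (nat_lit 0x3a038) (nat_lit 6)
(Net.cons (nat_lit 0x4004) (nat_lit 3)
(Net.cons (nat_lit 0x41241) (nat_lit 2)
(Net.cons (nat_lit 0x241249) (nat_lit 1)
(Net.cons (nat_lit 0x209008) (nat_lit 2)
(Net.cons (nat_lit 0xc5045) (nat_lit 3)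
(Net.cons (nat_lit 0x2d032) (nat_lit 6)
(Net.cons (nat_lit 0xf85) (nat_lit 12)
Net.nil)))))))))

noncomputable def x12 : Net :=
(Net.cons (nat_lit 0xa60) (nat_lit 12)
(Net.cons (nat_lit 0xc010) (nat_lit 6)
(Net.cons (nat_lit 0x4106) (nat_lit 3)
(Net.cons (nat_lit 0x41041) (nat_lit 2)
(Net.cons (nat_lit 0x41249) (nat_lit 1)
(Net.cons (nat_lit 0x241001) (nat_lit 2)
(Net.cons (nat_lit 0x182100) (nat_lit 3)
(Net.cons (nat_lit 0x2b036) (nat_lit 6)
(Net.cons (nat_lit 0xc67) (nat_lit 12)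
Net.nil)))))))))

noncomputable def x13 : Net :=
(Net.cons (nat_lit 0xa82) (nat_lit 12)
(Net.cons (nat_lit 0x1802e) (nat_lit 6)
(Net.cons (nat_lit 0x182006) (nat_lit 3)
(Net.cons (nat_lit 0x200008) (nat_lit 2)
(Net.cons (nat_lit 0x241009) (nat_lit 1)
(Net.cons (nat_lit 0x48001) (nat_lit 2)
(Net.cons (nat_lit 0x7043) (nat_lit 3)
(Net.cons (nat_lit 0x39005) (nat_lit 6)
(Net.cons (nat_lit 0xb7e) (nat_lit 12)
Net.nil)))))))))

noncomputable def R0 : List Net := [x0, x1, x2, x3, x4, x5, x6, x7, x8, x9, x10, x11, x12, x13]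

noncomputable def R : List Net := R0 ++ Cfsg.Agent.Schur.M24.T

theorem ok : TOK 24 R := tok_append (TOK_of_ok (by decide +kernel)) Cfsg.Agent.Schur.M24.ok

def D : List (List Nat × List Nat) :=
  [([0], [18, 15, 14, 18, 16, 16, 21, 18, 26, 23, 20, 23, 23, 25, 26, 27]),
   ([1], [16, 14, 23, 16, 24, 18, 26, 23, 20, 26, 23, 22, 25, 24, 27, 27]),
   ([2], [24, 16, 23, 18, 26, 23, 22, 24, 26, 24, 27, 27]),
   ([3], [22, 16, 14, 18, 16, 16, 21, 18, 23, 20, 26, 22, 22, 27]),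
   ([4], [16, 14, 16, 16, 26, 19, 23, 20, 20, 23, 23, 24, 25]),
   ([5], [17, 14, 24, 19, 18, 27, 20, 20, 26, 22, 22, 25, 26, 27, 27]),
   ([6], [14, 14, 14, 17, 17, 24, 19, 18, 25, 20, 20, 26, 24, 22, 27, 24, 24, 27, 27]),
   ([7], [17, 14, 20, 16, 16, 26, 19, 18, 25, 22, 22, 26, 25, 27, 27]),
   ([8], [16, 16, 14, 25, 17, 18, 18, 22, 20, 26, 22, 22]),
   ([9], [17, 14, 18, 16, 19, 21, 22, 22, 22, 27, 27]),
   ([10], [21, 15, 18, 16, 16, 18, 26, 23, 20, 22, 26, 27]),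
   ([11], [15, 14, 16, 16, 23, 18, 23, 20, 20, 22, 22, 27, 27]),
   ([12], [21, 15, 16, 23, 16, 21, 18, 18, 22, 21, 26, 24, 22, 27, 24, 24, 27]),
   ([13], [14, 14, 14, 22, 16, 21, 18, 24, 20, 23, 26, 24])]

theorem defs : ∀ e ∈ D, ev (sig R) e.1 = ev (sig R) e.2 :=
  eq_of_eqsP ok (by norm_num) (show eqsP (nat_lit 24) (nat_lit 5) (nat_lit 0) (nat_lit 5) R D = true by decide +kernel)

theorem allIn : AllIn Cfsg.Agent.Schur.M24.phi.range R := AllIn.ext Cfsg.Agent.Schur.M24.allIn (o := 14) rfl defs (by decide +kernel)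

def T : List (List (List Nat)) :=
  [[[4]],
   [[1, 4, 7], []],
   [[2, 5], [2, 5], []],
   [[3, 8, 9], [3, 9], [3, 6], []],
   [[4], [4], [4, 7], [4, 9], []],
   [[5, 7], [5], [5], [5, 8, 9], [5], []],
   [[6, 8, 9], [6, 8], [6], [6], [6, 9], [6, 9], []],
   [[7], [7], [7], [7, 9], [7], [7], [7], []],
   [[8, 9], [8], [8, 9], [8], [8], [8], [8], [8], []],
   [[9], [9], [9], [9], [9], [9], [9], [9], [9], []]]

def Y : List (Nat × List Nat × List Nat) :=
  [(10, [0], [0, 1, 3, 4, 6, 8]),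
   (10, [1], [1, 4, 5]),
   (10, [4], [7, 8]),
   (10, [5], [1, 4, 7, 9]),
   (10, [6], [3, 8]),
   (10, [8], [8, 9]),
   (10, [9], [9]),
   (11, [4], [0, 1, 5, 7]),
   (11, [5], [2, 6, 7, 9]),
   (11, [8], [6, 9]),
   (12, [1], [1, 9]),
   (12, [7], [9]),
   (12, [8], [4, 5, 8]),
   (13, [6], [6, 8, 9]),
   (13, [7], [4, 5])]

theorem eqs : ∀ e ∈ (pcEqs 2 10 T ++ stEqs Y), ev (sig R) e.1 = ev (sig R) e.2 :=
  eq_of_eqsP ok (by norm_num) (show eqsP (nat_lit 24) (nat_lit 5) (nat_lit 0) (nat_lit 5) R (pcEqs 2 10 T ++ stEqs Y) = true by decide +kernel)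

def lv : List (List (List Nat) × List Nat × Nat × Nat) :=
  [([[0], [4], [1, 2, 5, 7, 9]], [0, 1, 3, 0], 2, 8),
   ([[1], [2, 3, 5, 8]], [0, 2, 0], 12, 4),
   ([[2]], [0], 9, 2),
   ([[6, 9], [9], [3, 8], [3]], [1, 3, 0, 2], 0, 16)]

theorem low : 2 ^ 10 ≤ Nat.card (gen (sig R) 10) :=
  low_gen (l := 5) (lv := lv) ok (by norm_num) (by decide +kernel) (by decide +kernel)

def I0 : List Ins :=
  [Ins.cons (nat_lit 0x1) (nat_lit 1) (nat_lit 0x41) (nat_lit 0xb01),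
   Ins.cons (nat_lit 0x3) (nat_lit 1) (nat_lit 0x82) (nat_lit 0x150101101),
   Ins.cons (nat_lit 0x4) (nat_lit 1) (nat_lit 0x82) (nat_lit 0x370102f01),
   Ins.cons (nat_lit 0x7) (nat_lit 1) (nat_lit 0x82) (nat_lit 0x2d0102601),
   Ins.cons (nat_lit 0x4) (nat_lit 1) (nat_lit 0xc3) (nat_lit 0x1c0101801),
   Ins.cons (nat_lit 0x5) (nat_lit 1) (nat_lit 0xc3) (nat_lit 0x240101f01),
   Ins.cons (nat_lit 0x9) (nat_lit 1) (nat_lit 0xc3) (nat_lit 0x370103001),
   Ins.cons (nat_lit 0x5) (nat_lit 1) (nat_lit 0x104) (nat_lit 0x370103101),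
   Ins.cons (nat_lit 0x7) (nat_lit 1) (nat_lit 0x145) (nat_lit 0x370103201),
   Ins.cons (nat_lit 0x7) (nat_lit 1) (nat_lit 0x186) (nat_lit 0x370103301),
   Ins.cons (nat_lit 0x8) (nat_lit 1) (nat_lit 0x41) (nat_lit 0x2101),
   Ins.cons (nat_lit 0xa) (nat_lit 1) (nat_lit 0x41) (nat_lit 0x3201),
   Ins.cons (nat_lit 0x3) (nat_lit 1) (nat_lit 0x43) (nat_lit 0x150101201),
   Ins.cons (nat_lit 0x6) (nat_lit 1) (nat_lit 0x46) (nat_lit 0x240102201),
   Ins.cons (nat_lit 0x9) (nat_lit 1) (nat_lit 0x49) (nat_lit 0x370103601),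
   Ins.cons (nat_lit 0x7) (nat_lit 1) (nat_lit 0x87) (nat_lit 0x2d0102b01),
   Ins.cons (nat_lit 0x4) (nat_lit 1) (nat_lit 0xc4) (nat_lit 0x1c0101901),
   Ins.cons (nat_lit 0x5) (nat_lit 1) (nat_lit 0xc5) (nat_lit 0x240102101),
   Ins.cons (nat_lit 0x8) (nat_lit 1) (nat_lit 0x108) (nat_lit 0x370103501),
   Ins.cons (nat_lit 0x7) (nat_lit 1) (nat_lit 0x147) (nat_lit 0x370103401),
   Ins.cons (nat_lit 0x6) (nat_lit 1) (nat_lit 0x41) (nat_lit 0x240101d0101401),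
   Ins.cons (nat_lit 0x9) (nat_lit 1) (nat_lit 0x41) (nat_lit 0x370102e0102901),
   Ins.cons (nat_lit 0x6) (nat_lit 1) (nat_lit 0x104) (nat_lit 0x3701036010310102d0102801),
   Ins.cons (nat_lit 0x2) (nat_lit 1) (nat_lit 0x42) (nat_lit 0x24010210101e0100f0100c01),
   Ins.cons (nat_lit 0x6) (nat_lit 1) (nat_lit 0x106) (nat_lit 0x3701036010330102d0102a01),
   Ins.cons (nat_lit 0x2) (nat_lit 1) (nat_lit 0x41) (nat_lit 0x24010210101d0100f0100c0100b01),
   Ins.cons (nat_lit 0x3) (nat_lit 1) (nat_lit 0x41) (nat_lit 0x2401015010100100d01),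
   Ins.cons (nat_lit 0x8) (nat_lit 1) (nat_lit 0x87) (nat_lit 0x2c01),
   Ins.cons (nat_lit 0x4) (nat_lit 1) (nat_lit 0x41) (nat_lit 0x360102e0102d010250100e01),
   Ins.cons (nat_lit 0x7) (nat_lit 1) (nat_lit 0x41) (nat_lit 0x37010360102e0102d010250101a01),
   Ins.cons (nat_lit 0x7) (nat_lit 1) (nat_lit 0x85) (nat_lit 0x360102f0102901),
   Ins.cons (nat_lit 0x7) (nat_lit 1) (nat_lit 0x86) (nat_lit 0x360102f0102a01),
   Ins.cons (nat_lit 0x8) (nat_lit 1) (nat_lit 0xc4) (nat_lit 0x34010300102301),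
   Ins.cons (nat_lit 0x7) (nat_lit 1) (nat_lit 0x83) (nat_lit 0x3701036010330102a010270101b01),
   Ins.cons (nat_lit 0x5) (nat_lit 1) (nat_lit 0xc4) (nat_lit 0x3001023010200101a01),
   Ins.cons (nat_lit 0x4) (nat_lit 1) (nat_lit 0x83) (nat_lit 0x33010300102d0102b0101b010170101301),
   Ins.cons (nat_lit 0x4) (nat_lit 1) (nat_lit 0x43) (nat_lit 0x300102d0102a010270101b010160101301),
   Ins.stab 10 [2, 2] [] (nat_lit 0x2d0102c010240100f01),
   Ins.stab 10 [4, 2] [2, 4, 6] (nat_lit 0x3e010370102c01028010200101a01),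
   Ins.stab 10 [4, 1] [1, 4, 5] (nat_lit 0x3d01037010320102d0102a010290102601017010130100e0100801),
   Ins.stab 10 [4, 3] [3, 4, 6] (nat_lit 0x3e0103701032010310102c0102901026010200101b0100e0100801),
   Ins.stab 10 [4, 0] [0, 4, 5, 6] (nat_lit 0x3e0103d010360103201031010280102501019010160100e010080100701),
   Ins.stab 11 [9, 9] [] (nat_lit 0x37010340102d0101c01),
   Ins.stab 11 [8, 7] [7, 8] (nat_lit 0x37010350102e0102d0102601023010220101f0101e0101d0101b010170101601015010140101201011010050100401),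
   Ins.stab 12 [11, 10] [10, 11] (nat_lit 0x2f0101e01),
   Ins.stab 12 [12, 12] [] (nat_lit 0x2a0102901015010140100f01),
   Ins.stab 13 [14, 13] [13, 14] (nat_lit 0x37010320102a01029010230101b0101a01)]

theorem ins0 : InsOK 10 0 70 T Y 1 I0 :=
  InsOK.of 10 (show lall (insOK (nat_lit 10) (nat_lit 0) (nat_lit 10) (nat_lit 70) T Y (nat_lit 1)) I0 = true by decide +kernel)

def I : List Ins := I0

def K : List Nat :=
  []

def O : List Nat :=
  []

def U : List Nat :=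
  [nat_lit 0xd010020300101,
   nat_lit 0x301,
   nat_lit 0x601,
   nat_lit 0xa01,
   nat_lit 0xd0200202,
   nat_lit 0x402,
   nat_lit 0x902,
   nat_lit 0xd02,
   nat_lit 0x80200702,
   nat_lit 0x802]

def C : List (List Nat) :=
  [[nat_lit 0x0],
  [nat_lit 0x0,
   nat_lit 0x0],
  [nat_lit 0x0,
   nat_lit 0x2e0102c0102601025010240102201021010200101c0101a0101801016010140101301012010100100e0100d0100c0100b0100901007010060100401003010020100101,
   nat_lit 0x0],
  [nat_lit 0x0,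
   nat_lit 0x0,
   nat_lit 0x0,
   nat_lit 0x0],
  [nat_lit 0x101,
   nat_lit 0x2d01026010200101c01019010180100b0100a01,
   nat_lit 0x0,
   nat_lit 0x2f0102901027010210102001017010140100c0100901007010040100301,
   nat_lit 0x26010200101c01019010120100c0100b0100a010090100301],
  [nat_lit 0x2e0102d010260101f0101c0101b0101a010190101801015010120100b0100a0100101,
   nat_lit 0x2e0102d010260101f0101c0101a0101901018010150100a010020100101,
   nat_lit 0x2e0102d010260101f0101c0101a0101901018010150100d0100a0100101,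
   nat_lit 0x2f0102b0102a010280102701025010240102301022010200101f0101e0101c01019010160101401011010100100c0100a01008010070100401,
   nat_lit 0x2d0101a0101801015010120100c0100b01009010030100101,
   nat_lit 0x2e0102d010260101f0101c0101a0101901018010150100a0100101],
  [nat_lit 0x2f0102b0102a010280102701024010230101f0101e0101c010160101401011010100100f0100a0100901008010040100301,
   nat_lit 0x2f0102b0102a0102901028010250102301022010200101d0101c01019010170101601014010110100c01009010080100301,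
   nat_lit 0x2b0102001019010140100c0100a01009010050100301,
   nat_lit 0x2b010200101901014010110100c0100a010090100301,
   nat_lit 0x2f010290102701021010200101e0101d010170101401007010040100301,
   nat_lit 0x29010270101f0101e0101d0101701009010040100301,
   nat_lit 0x2b0102001019010140100c0100a010090100301],
  [nat_lit 0x2d0101a010180100c01009010030100101,
   nat_lit 0x2d0100c010090100301,
   nat_lit 0x120100b0100601,
   nat_lit 0x2f010290102701023010200101e0101d010170100c0100901007010040100301,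
   nat_lit 0xb01,
   nat_lit 0x120100e0100b01,
   nat_lit 0x21010140100701,
   nat_lit 0x120100b01],
  [nat_lit 0x2f0102901027010210101f0101d010190101701016010140100a01007010040100301,
   nat_lit 0x20010190100c0100a01009010040100301,
   nat_lit 0x290102701022010200101f0101e0101d010170100c0100a0100401,
   nat_lit 0x2001019010170100f0100a010080100301,
   nat_lit 0x1f0100f0100301,
   nat_lit 0x200100f0100301,
   nat_lit 0x2001019010100100c0100a010090100301,
   nat_lit 0x1c01,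
   nat_lit 0x20010190100c0100a010090100301],
  [nat_lit 0x1f010160100f0100c010090100301,
   nat_lit 0xc010090100301,
   nat_lit 0xc010090100701,
   nat_lit 0xc010090100801,
   nat_lit 0xc01,
   nat_lit 0xc0100a0100901,
   nat_lit 0x140100c0100901,
   nat_lit 0x130100c0100901,
   nat_lit 0xf0100c0100901,
   nat_lit 0xc0100901]]

theorem ord : ordsOK 2 (Nat.succ 1) 3 70 (insL I) K [] O = true :=
  show ordsOK (nat_lit 2) (Nat.succ (nat_lit 1)) (nat_lit 3) (nat_lit 70) (insL I) K [] O = true by decide +kernel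

theorem tgt0 : TgtOK 2 70 T 2 3 (K ++ insL I) U C 0 10 :=
  TgtOK.of 9 10 rfl (show tgtRows (nat_lit 2) (nat_lit 9) (nat_lit 70) T (nat_lit 2) (nat_lit 3) (K ++ insL I) U C (nat_lit 0) (nat_lit 10) = true by decide +kernel)

theorem gen : PGen ↥Cfsg.M24 2 [] :=
  haveI := Cfsg.Agent.Schur.M24.card.1
  pgen_net Cfsg.Agent.Schur.M24.inj allIn Cfsg.Agent.Schur.M24.card.2 (by norm_num) rfl eqs low (by norm_num) (by decide +kernel) (E := 0) (I := I)
    (ins0) ord (a := 1) tgt0 (by decide +kernel)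

end P2

end Cfsg.Agent.Schur.M24
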