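import Cfsg.Agent.Schur.M24.Base

set_option autoImplicit false
set_option maxRecDepth 100000

namespace Cfsg.Agent.Schur.M24
open Cfsg.Agent.Comp Cfsg.Agent.Schur

namespace P3

noncomputable def x0 : Net :=
(Net.cons (nat_lit 0xd3c) (nat_lit 12)
(Net.cons (nat_lit 0x401e) (nat_lit 6)
(Net.cons (nat_lit 0x80000) (nat_lit 3)
(Net.cons (nat_lit 0x8) (nat_lit 2)
(Net.cons (nat_lit 0x200048) (nat_lit 1)
(Net.cons (nat_lit 0x40041) (nat_lit 2)
(Net.cons (nat_lit 0x140140) (nat_lit 3)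
(Net.cons (nat_lit 0x1603b) (nat_lit 6)
(Net.cons (nat_lit 0x37e) (nat_lit 12)
Net.nil)))))))))

noncomputable def x1 : Net :=
(Net.cons (nat_lit 0x618) (nat_lit 12)
(Net.cons (nat_lit 0x10) (nat_lit 6)
(Net.cons (nat_lit 0x84102) (nat_lit 3)
(Net.cons (nat_lit 0x8200) (nat_lit 2)
(Net.cons (nat_lit 0x48201) (nat_lit 1)
(Net.cons (nat_lit 0x8200) (nat_lit 2)
(Net.cons (nat_lit 0xc0186) (nat_lit 3)
(Net.cons (nat_lit 0x4018) (nat_lit 6)
(Net.cons (nat_lit 0x635) (nat_lit 12)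
Net.nil)))))))))

noncomputable def x2 : Net :=
(Net.cons (nat_lit 0xf00) (nat_lit 12)
(Net.cons (nat_lit 0x16) (nat_lit 6)
(Net.cons (nat_lit 0x80104) (nat_lit 3)
(Net.cons (nat_lit 0x40) (nat_lit 2)
(Net.cons (nat_lit 0x40240) (nat_lit 1)
(Net.cons (nat_lit 0x1041) (nat_lit 2)
(Net.cons (nat_lit 0xc5101) (nat_lit 3)
(Net.cons (nat_lit 0x2) (nat_lit 6)
(Net.cons (nat_lit 0x725) (nat_lit 12)
Net.nil)))))))))

noncomputable def x3 : Net :=
(Net.cons (nat_lit 0xc58) (nat_lit 12)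
(Net.cons (nat_lit 0x802e) (nat_lit 6)
(Net.cons (nat_lit 0x2080) (nat_lit 3)
(Net.cons (nat_lit 0x1) (nat_lit 2)
(Net.cons (nat_lit 0x241041) (nat_lit 1)
(Net.cons (nat_lit 0x201209) (nat_lit 2)
(Net.cons (nat_lit 0x6101) (nat_lit 3)
(Net.cons (nat_lit 0x4027) (nat_lit 6)
(Net.cons (nat_lit 0xa7d) (nat_lit 12)
Net.nil)))))))))

noncomputable def R0 : List Net := [x0, x1, x2, x3]

noncomputable def R : List Net := R0 ++ Cfsg.Agent.Schur.M24.T

theorem ok : TOK 24 R := tok_append (TOK_of_ok (by decide +kernel)) Cfsg.Agent.Schur.M24.ok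

def D : List (List Nat × List Nat) :=
  [([0], [16, 5, 7, 11, 9, 10, 11, 16, 13, 12, 14, 16, 17]),
   ([1], [5, 6, 4, 6, 14, 8, 16, 13, 10, 16, 12, 15, 17]),
   ([2], [16, 5, 10, 7, 13, 8, 16, 13, 10, 16, 12, 12, 14, 16, 14]),
   ([3], [17, 5, 14, 6, 13, 8, 17, 11, 15, 12, 12, 16, 16, 17])]

theorem defs : ∀ e ∈ D, ev (sig R) e.1 = ev (sig R) e.2 :=
  eq_of_eqsP ok (by norm_num) (show eqsP (nat_lit 24) (nat_lit 5) (nat_lit 0) (nat_lit 5) R D = true by decide +kernel)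

theorem allIn : AllIn Cfsg.Agent.Schur.M24.phi.range R := AllIn.ext Cfsg.Agent.Schur.M24.allIn (o := 4) rfl defs (by decide +kernel)

def T : List (List (List Nat)) :=
  [[[]],
   [[1, 2], []],
   [[2], [2], []]]

def Y : List (Nat × List Nat × List Nat) :=
  [(3, [0], [0, 0, 2, 2]),
   (3, [1], [1, 1, 2]),
   (3, [2], [2])]

theorem eqs : ∀ e ∈ (pcEqs 3 3 T ++ stEqs Y), ev (sig R) e.1 = ev (sig R) e.2 :=
  eq_of_eqsP ok (by norm_num) (show eqsP (nat_lit 24) (nat_lit 5) (nat_lit 0) (nat_lit 5) R (pcEqs 3 3 T ++ stEqs Y) = true by decide +kernel)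

def lv : List (List (List Nat) × List Nat × Nat × Nat) :=
  [([[0]], [0, 0], 6, 3),
   ([[1]], [0, 0], 7, 3),
   ([[2]], [0, 0], 0, 3)]

theorem low : 3 ^ 3 ≤ Nat.card (gen (sig R) 3) :=
  low_gen (l := 5) (lv := lv) ok (by norm_num) (by decide +kernel) (by decide +kernel)

def I0 : List Ins :=
  [Ins.cons (nat_lit 0x2) (nat_lit 1) (nat_lit 0x1041) (nat_lit 0x602),
   Ins.stab 3 [2, 1] [1, 2] (nat_lit 0x502),
   Ins.stab 3 [2, 0] [0, 2] (nat_lit 0x402)]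

theorem ins0 : InsOK 3 1 9 T Y 2 I0 :=
  InsOK.of 9 (show lall (insOK (nat_lit 3) (nat_lit 1) (nat_lit 9) (nat_lit 9) T Y (nat_lit 2)) I0 = true by decide +kernel)

def I : List Ins := I0

def K : List Nat :=
  []

def O : List Nat :=
  []

def U : List Nat :=
  [nat_lit 0x101,
   nat_lit 0x301,
   nat_lit 0x206]

def C : List (List Nat) :=
  [[nat_lit 0x0],
  [nat_lit 0x0,
   nat_lit 0x0],
  [nat_lit 0x301,
   nat_lit 0x201,
   nat_lit 0x101]]

theorem ord : ordsOK 3 (Nat.succ 2) 3 9 (insL I) K [] O = true :=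
  show ordsOK (nat_lit 3) (Nat.succ (nat_lit 2)) (nat_lit 3) (nat_lit 9) (insL I) K [] O = true by decide +kernel

theorem tgt0 : TgtOK 3 9 T 3 8 (K ++ insL I) U C 0 3 :=
  TgtOK.of 9 3 rfl (show tgtRows (nat_lit 3) (nat_lit 9) (nat_lit 9) T (nat_lit 3) (nat_lit 8) (K ++ insL I) U C (nat_lit 0) (nat_lit 3) = true by decide +kernel)

theorem gen : PGen ↥Cfsg.M24 3 [] :=
  haveI := Cfsg.Agent.Schur.M24.card.1
  pgen_net Cfsg.Agent.Schur.M24.inj allIn Cfsg.Agent.Schur.M24.card.2 (by norm_num) rfl eqs low (by norm_num) (by decide +kernel) (E := 0) (I := I)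
    (ins0) ord (a := 1) tgt0 (by decide +kernel)

end P3

end Cfsg.Agent.Schur.M24
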